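import Cfsg.Agent.Lib.Fischer3T52.Lift
import Cfsg.Agent.Lib.M23Struct19.Primitive

/-!
# Commuting members lift to commuting involutions in a double cover of a group of type M(22)
-/

set_option autoImplicit false

namespace Cfsg.Agent.Lib.Fischer3T52

open Cfsg Cfsg.Agent.Lib.ThreeTransp Cfsg.Agent.Lib.ThreeTransp.Products

variable {U : Type*} [Group U] [Finite U] {E : Set U}

set_option quotPrecheck false in
local notation "Nb" d:max => {y : U | y ∈ E ∧ y ≠ d ∧ Commute d y}

variable (hE : IsThreeTranspositionGroup E) (h22 : IsOfTypeM22 U E)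
include hE h22

/-- Five neighbours of a member on a line through a given one have product equal to the member. -/
theorem exists_five_nbr {e a : U} (he : e ∈ E) (ha : a ∈ Nb e) :
    ∃ l : List U, l.length = 5 ∧ a ∈ l ∧ (∀ v ∈ l, v ∈ Nb e) ∧ e * l.prod = 1 := by
  obtain ⟨hgood, -, h5⟩ := good_of_m22 hE h22
  obtain ⟨C⟩ := exists_coverMap hE h22 he
  letI := C.instField
  letI := C.instFintype
  obtain ⟨b, hb, hba, hcab⟩ := M23Struct19.exists_common_nbr hE h22 he ha
  have hm : ∀ x (hx : x ∈ Nb e), C.map ⟨x, Subgroup.subset_closure hx⟩ ∈ C.cls := fun x hx => by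
    rw [C.cls_eq]; exact ⟨x, hx, rfl⟩
  obtain ⟨P₁, P₂, P₃, hnd, hP, hcom, hprod, -⟩ := PSUSix.exists_five C.card C.cls_set C.cls_conj
    (hm a ha) (hm b hb) (M23Struct19.cover_commute hE C ha hb hcab.symm) (fun h => hba (C.inj _ ha _ hb h).symm)
  have hsrc : ∀ P ∈ [P₁, P₂, P₃], ∃ x, ∃ hx : x ∈ Nb e, C.map ⟨x, Subgroup.subset_closure hx⟩ = P := by
    intro P hP'
    have : P ∈ C.cls := hP P (by simp only [List.mem_cons, List.not_mem_nil, or_false] at hP' ⊢; tauto)
    rw [C.cls_eq] at this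
    exact this
  obtain ⟨x, hx, rfl⟩ := hsrc P₁ (by simp)
  obtain ⟨y, hy, rfl⟩ := hsrc P₂ (by simp)
  obtain ⟨w, hw, rfl⟩ := hsrc P₃ (by simp)
  set l : List ↥(Subgroup.closure (Nb e)) := [⟨a, Subgroup.subset_closure ha⟩, ⟨b, Subgroup.subset_closure hb⟩,
    ⟨x, Subgroup.subset_closure hx⟩, ⟨y, Subgroup.subset_closure hy⟩, ⟨w, Subgroup.subset_closure hw⟩] with hl
  have hmem : ∀ v ∈ l, (v : U) ∈ Nb e := by
    intro v hv
    simp only [hl, List.mem_cons, List.not_mem_nil, or_false] at hv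
    rcases hv with rfl | rfl | rfl | rfl | rfl <;> assumption
  refine ⟨l.map Subtype.val, by simp [hl], by simp [hl], fun v hv => ?_, ?_⟩
  · obtain ⟨u, hu, rfl⟩ := List.mem_map.1 hv
    exact hmem u hu
  have h1 : C.map l.prod = 1 := by
    rw [map_list_prod]
    simpa [hl] using hprod
  have hz : l.prod ∈ Subgroup.center ↥(Subgroup.closure (Nb e)) := C.ker ▸ h1
  have hval : (l.map Subtype.val).prod = (l.prod : U) :=
    (map_list_prod (Subgroup.closure (Nb e)).subtype l).symm
  rw [hval]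
  rcases M23Struct19.central_base hE h22 he (Subgroup.mem_centralizer_singleton_iff.1 (closure_nbr_le E e l.prod.2))
    (fun s hs => congrArg Subtype.val (Subgroup.mem_center_iff.1 hz ⟨s, Subgroup.subset_closure hs⟩)) with k | k
  · exfalso
    rw [← hval] at k
    refine h5 (l.map Subtype.val) ?_ (by simp [hl]) (fun v hv => ?_) ?_ k
    · refine List.Nodup.of_map (fun v : U => v) ?_
      rw [List.map_id']
      refine (List.nodup_map_iff Subtype.val_injective).2 (List.Nodup.of_map C.map ?_)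
      simpa [hl] using hnd
    · obtain ⟨u, hu, rfl⟩ := List.mem_map.1 hv
      exact (hmem u hu).1
    · intro v hv v' hv'
      obtain ⟨u, hu, rfl⟩ := List.mem_map.1 hv
      obtain ⟨u', hu', rfl⟩ := List.mem_map.1 hv'
      exact C.refl _ (hmem u hu) _ (hmem u' hu') (hcom _ (by
        have := List.mem_map_of_mem (f := C.map) hu; simpa [hl] using this) _ (by
        have := List.mem_map_of_mem (f := C.map) hu'; simpa [hl] using this))
  · rw [k, mul_self hE.1 he]

variable {C : Type*} [Group C] {π : C →* U} {z : C} (hT : TwoCover π z)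
include hT

/-- Lifts of commuting members commute. -/
theorem m22_comm {e a : U} (he : e ∈ E) (ha : a ∈ E) (hea : Commute e a) : LiftComm π e a := by
  by_cases hne : a = e
  · subst hne
    obtain ⟨c, rfl⟩ := hT.surj a
    exact (hT.liftComm_iff rfl rfl).2 (Commute.refl c)
  obtain ⟨l, hlen, hal, hl, hprod⟩ := exists_five_nbr hE h22 he (a := a) ⟨ha, hne, hea⟩
  refine hT.liftComm_of_prod (by rw [hlen]; decide) hprod (fun v hv => (hl v hv).2.2) ?_ a hal
  intro v hv w hw
  obtain ⟨g, hg, hgv⟩ := M23Struct19.nbr_isConj hE h22 he (hl v hv) (hl w hw)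
  refine hT.liftComm_conj ?_ hgv
  rw [(Subgroup.mem_centralizer_singleton_iff.1 (closure_nbr_le E e hg)), mul_inv_cancel_right]

/-- The members lift to involutions. -/
theorem m22_sq {e : U} (he : e ∈ E) : LiftSq π e := by
  obtain ⟨hgood, -⟩ := good_of_m22 hE h22
  obtain ⟨x, -, hx, hxc, hprod⟩ := M23Struct19.exists_six hE h22 he
  have hmem : ∀ v ∈ e :: List.ofFn x, v ∈ E := by
    intro v hv
    rcases List.mem_cons.1 hv with rfl | hv
    · exact he
    · obtain ⟨i, rfl⟩ := List.mem_ofFn.1 hv; exact (hx i).1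
  refine hT.liftSq_of_prod (l := e :: List.ofFn x) (by simp; decide) ?_ ?_ (fun v hv => mul_self hE.1 (hmem v hv)) ?_
    e (by simp)
  · rw [List.prod_cons]
    simp only [List.ofFn_succ, List.ofFn_zero, List.prod_cons, List.prod_nil, mul_one]
    exact (congrArg (e * ·) hprod).trans (mul_self hE.1 he)
  · intro v hv w hw
    refine m22_comm hE h22 hT (hmem v hv) (hmem w hw) ?_
    rcases List.mem_cons.1 hv with e1 | h1 <;> rcases List.mem_cons.1 hw with e2 | h2
    · rw [e1, e2]
    · obtain ⟨j, rfl⟩ := List.mem_ofFn.1 h2; rw [e1]; exact (hx j).2.2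
    · obtain ⟨j, rfl⟩ := List.mem_ofFn.1 h1; rw [e2]; exact (hx j).2.2.symm
    · obtain ⟨i, rfl⟩ := List.mem_ofFn.1 h1; obtain ⟨j, rfl⟩ := List.mem_ofFn.1 h2; exact hxc i j
  · intro v hv w hw
    obtain ⟨g, hg⟩ := isConj_iff.1 (isConj_of_mem hE.1 hE.2.1 hE.2.2 hgood (hmem v hv) (hmem w hw))
    exact hT.liftSq_conj hg

/-- With involutions products of commuting members, involutions lift to involutions and `z` is no square. -/
theorem lift_m22 (hz : z ≠ 1)
    (hinv : ∀ x : U, orderOf x = 2 → ∃ l : List U, (∀ v ∈ l, v ∈ E) ∧ (∀ v ∈ l, ∀ w ∈ l, Commute v w) ∧ l.prod = x) :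
    (∀ x : U, orderOf x = 2 → ∃ y : C, orderOf y = 2 ∧ π y = x) ∧ ¬ ∃ g : C, g * g = z :=
  hT.lift_involutions hz fun x hx => by
    by_cases h1 : x = 1
    · exact ⟨[], by simp, by simp, by simp [h1]⟩
    obtain ⟨l, hl, hlc, hlp⟩ := hinv x (orderOf_eq_prime (by rw [pow_two, hx]) h1)
    exact ⟨l, fun v hv w hw => m22_comm hE h22 hT (hl v hv) (hl w hw) (hlc v hv w hw),
      fun v hv => m22_sq hE h22 hT (hl v hv), hlp⟩

end Cfsg.Agent.Lib.Fischer3T52
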