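import Cfsg.Agent.Lib.Fischer3T52.OnlyClass
import Cfsg.Agent.Lib.Fischer3T52.LiftM22
import Cfsg.Agent.Lib.Fischer3T.Facts

/-!
# The rows on the only class and on double covers, from the base facts
-/

set_option autoImplicit false

namespace Cfsg.Agent.Lib.Fischer3T52

open Cfsg Cfsg.Agent.Lib.ThreeTransp

/-- Type M(22): only one class, from the base facts. -/
theorem only_class_of_facts22 {G : Type*} [Group G] {D : Set G} (hD : IsThreeTranspositionGroup D)
    (hprim : IsPrimitiveUnderConj D) (h22 : IsOfTypeM22 G D) (hF : M22Struct66.Facts D)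
    {D' : Set G} (hD' : IsThreeTranspositionClass D') : D' = D :=
  only_class_m22 hD hprim h22 hF.exists_commProd hF.commProd_isConj hD'

/-- Type M(23): only one class, from the involution classes. -/
theorem only_class_of_inv23 {G : Type*} [Group G] {D : Set G} (hD : IsThreeTranspositionGroup D)
    (hprim : IsPrimitiveUnderConj D) (h23 : IsOfTypeM23 G D) (hI : Fischer3T.Inv23 D)
    {D' : Set G} (hD' : IsThreeTranspositionClass D') : D' = D :=
  only_class_m23 hD hprim h23 hI.exists_commProd hI.commProd_isConj hD'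

/-- Type M(24): only one class, from the involution classes. -/
theorem only_class_of_inv24 {G : Type*} [Group G] {D : Set G} (hD : IsThreeTranspositionGroup D)
    (hprim : IsPrimitiveUnderConj D) (h24 : IsOfTypeM24 G D) (hI : Fischer3T.Inv24 D)
    {D' : Set G} (hD' : IsThreeTranspositionClass D') : D' = D :=
  only_class_m24 hD hprim h24 hI.exists_commProd hI.commProd_isConj hD'

theorem group_of_class {U : Type*} [Group U] {E : Set U} (hE : IsThreeTranspositionClass E) :
    IsThreeTranspositionGroup E := by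
  obtain ⟨hS, ⟨x, hx, hcl⟩, hgen⟩ := hE
  refine ⟨hS, fun g d hd => ?_, hgen⟩
  subst hcl
  exact IsConj.trans hd (isConj_iff.2 ⟨g, rfl⟩)

/-- A quotient by a central involution of type M(22): involutions lift, and the involution is no square. -/
theorem lift_of_facts22 {G : Type*} [Group G] [Finite G] (d : G) (hd : orderOf d = 2)
    [hzn : ((Subgroup.zpowers d).subgroupOf (Subgroup.centralizer ({d} : Set G))).Normal]
    {E : Set (↥(Subgroup.centralizer ({d} : Set G)) ⧸ (Subgroup.zpowers d).subgroupOf (Subgroup.centralizer ({d} : Set G)))}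
    (hE : IsThreeTranspositionGroup E) (h22 : IsOfTypeM22 _ E) (hF : M22Struct66.Facts E) :
    (∀ x : ↥(Subgroup.centralizer ({d} : Set G)) ⧸ (Subgroup.zpowers d).subgroupOf (Subgroup.centralizer ({d} : Set G)),
      orderOf x = 2 → ∃ y : ↥(Subgroup.centralizer ({d} : Set G)), orderOf y = 2 ∧ (QuotientGroup.mk y : ↥(Subgroup.centralizer ({d} : Set G)) ⧸ (Subgroup.zpowers d).subgroupOf (Subgroup.centralizer ({d} : Set G))) = x) ∧
      ¬ ∃ g : G, g ^ 2 = d := by
  set C := Subgroup.centralizer ({d} : Set G)
  set N := (Subgroup.zpowers d).subgroupOf C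
  have hdd : d * d = 1 := by rw [← pow_two, ← hd]; exact pow_orderOf_eq_one d
  let z : ↥C := ⟨d, Subgroup.mem_centralizer_singleton_iff.2 rfl⟩
  have hT : TwoCover (QuotientGroup.mk' N) z :=
    { surj := QuotientGroup.mk'_surjective N
      ker := fun c hc => by
        have hc' : (c : G) ∈ Subgroup.zpowers d := (QuotientGroup.eq_one_iff c).1 hc
        obtain ⟨n, hn⟩ := Subgroup.mem_zpowers_iff.1 hc'
        rcases Int.even_or_odd n with ⟨m, rfl⟩ | ⟨m, rfl⟩
        · left; apply Subtype.ext
          rw [← hn, ← two_mul, zpow_mul, zpow_two, hdd, one_zpow]; rfl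
        · right; apply Subtype.ext
          rw [← hn, zpow_add, zpow_mul, zpow_two, hdd, one_zpow, one_mul, zpow_one]
      central := fun c => Subtype.ext (Subgroup.mem_centralizer_singleton_iff.1 c.2)
      sq := Subtype.ext hdd
      map_z := (QuotientGroup.eq_one_iff z).2 (Subgroup.mem_zpowers d) }
  have hz : z ≠ 1 := fun h => by
    have h1 : d = 1 := congrArg Subtype.val h
    rw [h1, orderOf_one] at hd; omega
  obtain ⟨h1, h2⟩ := lift_m22 hE h22 hT hz fun x hx => by
    obtain ⟨m, -, -, l, -, -, hl, hlc, hlp⟩ := hF.exists_commProd x hx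
    exact ⟨l, hl, hlc, hlp⟩
  refine ⟨h1, ?_⟩
  rintro ⟨g, hg⟩
  refine h2 ⟨⟨g, Subgroup.mem_centralizer_singleton_iff.2 ?_⟩, Subtype.ext ((pow_two g).symm.trans hg)⟩
  rw [← hg]; exact ((Commute.refl g).pow_right 2).eq

end Cfsg.Agent.Lib.Fischer3T52
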