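import Mathlib
import Cfsg.Agent.Lib.M22Struct66.Chart

/-!
# Lifting commuting involutions through a central extension by two

If commuting involutions of a central quotient by a group of order two have product 1, their lifts commute and
square to 1 as soon as the commutators, resp. the squares, agree along the relation and their number is odd.
-/

set_option autoImplicit false

namespace Cfsg.Agent.Lib.Fischer3T52

variable {C U : Type*} [Group C] [Group U]

/-- A surjection with kernel inside `{1, z}`, `z` central of square 1. -/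
structure TwoCover (π : C →* U) (z : C) : Prop where
  surj : Function.Surjective π
  ker : ∀ c, π c = 1 → c = 1 ∨ c = z
  central : ∀ c, c * z = z * c
  sq : z * z = 1
  map_z : π z = 1

/-- The lifts of `u` and `v` commute. -/
def LiftComm (π : C →* U) (u v : U) : Prop := ∀ a b : C, π a = u → π b = v → Commute a b

/-- The lifts of `u` square to 1. -/
def LiftSq (π : C →* U) (u : U) : Prop := ∀ a : C, π a = u → a * a = 1

namespace TwoCover

variable {π : C →* U} {z : C} (hT : TwoCover π z)
include hT

theorem commute_z (c : C) : Commute c z := hT.central c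

theorem eq_or (a b : C) (h : π a = π b) : a = b ∨ a = b * z := by
  rcases hT.ker (b⁻¹ * a) (by rw [map_mul, map_inv, h, inv_mul_cancel]) with e | e
  · exact Or.inl (inv_mul_eq_one.1 e).symm
  · exact Or.inr (eq_mul_of_inv_mul_eq e)

theorem liftComm_iff {u v : U} {a b : C} (ha : π a = u) (hb : π b = v) :
    LiftComm π u v ↔ Commute a b := by
  refine ⟨fun h => h a b ha hb, fun h a' b' ha' hb' => ?_⟩
  have h1 : Commute a' b := by
    rcases hT.eq_or a' a (ha'.trans ha.symm) with rfl | rfl
    exacts [h, h.mul_left (hT.commute_z b).symm]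
  rcases hT.eq_or b' b (hb'.trans hb.symm) with rfl | rfl
  exacts [h1, h1.mul_right (hT.commute_z a')]

theorem liftSq_iff {u : U} {a : C} (ha : π a = u) : LiftSq π u ↔ a * a = 1 := by
  refine ⟨fun h => h a ha, fun h a' ha' => ?_⟩
  rcases hT.eq_or a' a (ha'.trans ha.symm) with rfl | rfl
  · exact h
  · rw [(hT.commute_z a).symm.mul_mul_mul_comm, h, hT.sq, one_mul]

theorem liftComm_conj {u v u' v' g : U} (hu : g * u * g⁻¹ = u') (hv : g * v * g⁻¹ = v') :
    LiftComm π u v ↔ LiftComm π u' v' := by
  obtain ⟨c, rfl⟩ := hT.surj g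
  obtain ⟨a, rfl⟩ := hT.surj u
  obtain ⟨b, rfl⟩ := hT.surj v
  rw [hT.liftComm_iff rfl rfl, hT.liftComm_iff (a := c * a * c⁻¹) (b := c * b * c⁻¹) (by simpa using hu)
    (by simpa using hv)]
  exact (ThreeTransp.commute_conj_iff c).symm

theorem liftSq_conj {u u' g : U} (hu : g * u * g⁻¹ = u') : LiftSq π u ↔ LiftSq π u' := by
  obtain ⟨c, rfl⟩ := hT.surj g
  obtain ⟨a, rfl⟩ := hT.surj u
  rw [hT.liftSq_iff rfl, hT.liftSq_iff (a := c * a * c⁻¹) (by simpa using hu),
    show c * a * c⁻¹ * (c * a * c⁻¹) = c * (a * a) * c⁻¹ by group, conj_eq_one_iff]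

theorem comm_cases {a b : C} (h : Commute (π a) (π b)) : a * b = b * a ∨ a * b = b * a * z :=
  hT.eq_or _ _ (by rw [map_mul, map_mul, h.eq])

theorem prod_twist {a : C} : ∀ l : List C, (∀ b ∈ l, a * b = b * a * z) →
    a * l.prod = l.prod * a * z ^ l.length := by
  intro l
  induction l with
  | nil => simp
  | cons b l ih =>
    intro h
    have e := ih fun x hx => h x (by simp [hx])
    calc a * (b :: l).prod = (a * b) * l.prod := by rw [List.prod_cons, mul_assoc]
      _ = b * a * (z * l.prod) := by rw [h b (by simp), mul_assoc]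
      _ = b * (a * l.prod) * z := by rw [← hT.central l.prod]; simp [mul_assoc]
      _ = (b :: l).prod * a * z ^ (l.length + 1) := by rw [e, List.prod_cons, pow_succ]; simp [mul_assoc]

theorem z_pow_odd {n : ℕ} (h : Odd n) : z ^ n = z := by
  obtain ⟨k, rfl⟩ := h
  rw [pow_succ, pow_mul, pow_two, hT.sq, one_pow, one_mul]

/-- A relation of commuting elements with an odd number of alike partners makes the lifts commute. -/
theorem liftComm_of_prod {u : U} {l : List U} (hodd : Odd l.length) (hprod : u * l.prod = 1)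
    (hc : ∀ v ∈ l, Commute u v) (hsame : ∀ v ∈ l, ∀ w ∈ l, LiftComm π u v ↔ LiftComm π u w) :
    ∀ v ∈ l, LiftComm π u v := by
  intro v hv
  obtain ⟨a, rfl⟩ := hT.surj u
  choose L hL using hT.surj
  rw [hT.liftComm_iff rfl (hL v)]
  by_contra hne
  have hall : ∀ b ∈ l.map L, a * b = b * a * z := by
    intro b hb
    obtain ⟨w, hw, rfl⟩ := List.mem_map.1 hb
    rcases hT.comm_cases (a := a) (b := L w) (by rw [hL]; exact hc w hw) with e | e
    · exact absurd ((hT.liftComm_iff rfl (hL v)).1 ((hsame w hw v hv).1 ((hT.liftComm_iff rfl (hL w)).2 e))) hne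
    · exact e
  have hP : π (a * (l.map L).prod) = 1 := by
    rw [map_mul, map_list_prod, List.map_map]
    simpa [Function.comp_def, hL] using hprod
  have hcom : Commute a (l.map L).prod := by
    have h1 : Commute a (a * (l.map L).prod) := by
      rcases hT.ker _ hP with e | e <;> rw [e]
      exacts [Commute.one_right a, hT.commute_z a]
    have := (Commute.refl a).inv_right.mul_right h1
    rwa [inv_mul_cancel_left] at this
  have hz := hT.prod_twist _ hall
  rw [hcom.eq, List.length_map, hT.z_pow_odd hodd, left_eq_mul] at hz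
  exact hne (by simpa [Commute, SemiconjBy, hz] using hall (L v) (List.mem_map_of_mem hv))

omit hT in
theorem sq_prod_of_comm : ∀ l : List C, (∀ a ∈ l, ∀ b ∈ l, Commute a b) → (∀ a ∈ l, a * a = z) →
    l.prod * l.prod = z ^ l.length := by
  intro l
  induction l with
  | nil => simp
  | cons a l ih =>
    intro hc hs
    have hcom : Commute a l.prod := Commute.list_prod_right _ _ fun b hb => hc a (by simp) b (by simp [hb])
    rw [List.prod_cons, hcom.symm.mul_mul_mul_comm, hs a (by simp),
      ih (fun x hx y hy => hc x (by simp [hx]) y (by simp [hy])) (fun x hx => hs x (by simp [hx])),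
      List.length_cons, pow_succ']

/-- A relation of an odd number of alike involutions whose lifts commute makes the lifts involutions. -/
theorem liftSq_of_prod {l : List U} (hodd : Odd l.length) (hprod : l.prod = 1)
    (hc : ∀ v ∈ l, ∀ w ∈ l, LiftComm π v w) (h2 : ∀ v ∈ l, v * v = 1)
    (hsame : ∀ v ∈ l, ∀ w ∈ l, LiftSq π v ↔ LiftSq π w) : ∀ v ∈ l, LiftSq π v := by
  intro v hv
  choose L hL using hT.surj
  rw [hT.liftSq_iff (hL v)]
  by_contra hne
  have hall : ∀ b ∈ l.map L, b * b = z := by
    intro b hb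
    obtain ⟨w, hw, rfl⟩ := List.mem_map.1 hb
    rcases hT.ker (L w * L w) (by rw [map_mul, hL, h2 w hw]) with e | e
    · exact absurd ((hT.liftSq_iff (hL v)).1 ((hsame w hw v hv).1 ((hT.liftSq_iff (hL w)).2 e))) hne
    · exact e
  have hsq := sq_prod_of_comm (l.map L) (fun a ha b hb => by
    obtain ⟨w, hw, rfl⟩ := List.mem_map.1 ha
    obtain ⟨w', hw', rfl⟩ := List.mem_map.1 hb
    exact hc w hw w' hw' _ _ (hL w) (hL w')) hall
  have hP : π (l.map L).prod = 1 := by
    rw [map_list_prod, List.map_map]
    simpa [Function.comp_def, hL] using hprod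
  rw [List.length_map, hT.z_pow_odd hodd] at hsq
  rcases hT.ker _ hP with e | e <;> rw [e] at hsq
  · rw [one_mul] at hsq
    exact hne ((hall _ (List.mem_map_of_mem hv)).trans hsq.symm)
  · rw [hT.sq] at hsq
    exact hne ((hall _ (List.mem_map_of_mem hv)).trans hsq.symm)

/-- A product of commuting elements with commuting involution lifts lifts to an element of square 1. -/
theorem exists_sq_lift {l : List U} (hc : ∀ v ∈ l, ∀ w ∈ l, LiftComm π v w) (hs : ∀ v ∈ l, LiftSq π v) :
    ∃ y : C, π y = l.prod ∧ y * y = 1 := by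
  induction l with
  | nil => exact ⟨1, by simp, by simp⟩
  | cons u l ih =>
    obtain ⟨a, ha⟩ := hT.surj u
    choose L hL using hT.surj
    have hy : π (l.map L).prod = l.prod := by
      rw [map_list_prod, List.map_map]; simp [Function.comp_def, hL]
    obtain ⟨y, hy1, hy2⟩ := ih (fun x hx w hw => hc x (by simp [hx]) w (by simp [hw])) (fun x hx => hs x (by simp [hx]))
    have hcom : Commute a (l.map L).prod := Commute.list_prod_right _ _ fun b hb => by
      obtain ⟨w, hw, rfl⟩ := List.mem_map.1 hb
      exact hc u (by simp) w (by simp [hw]) _ _ ha (hL w)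
    have hay : Commute a y := by
      rcases hT.eq_or y _ (hy1.trans hy.symm) with rfl | rfl
      exacts [hcom, hcom.mul_right (hT.commute_z a)]
    exact ⟨a * y, by rw [map_mul, ha, hy1, List.prod_cons],
      by rw [hay.symm.mul_mul_mul_comm, hs u (by simp) a ha, hy2, one_mul]⟩

/-- The conclusion: involutions lift to involutions, and `z` is no square. -/
theorem lift_involutions (hz : z ≠ 1)
    (h : ∀ x : U, x * x = 1 → ∃ l : List U, (∀ v ∈ l, ∀ w ∈ l, LiftComm π v w) ∧ (∀ v ∈ l, LiftSq π v) ∧
      l.prod = x) :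
    (∀ x : U, orderOf x = 2 → ∃ y : C, orderOf y = 2 ∧ π y = x) ∧ ¬ ∃ g : C, g * g = z := by
  constructor
  · intro x hx
    obtain ⟨l, hc, hs, rfl⟩ := h x (by rw [← pow_two, ← hx]; exact pow_orderOf_eq_one x)
    obtain ⟨y, hy, hy2⟩ := hT.exists_sq_lift hc hs
    refine ⟨y, orderOf_eq_prime (by rw [pow_two, hy2]) (fun e => ?_), hy⟩
    rw [e, map_one] at hy
    rw [← hy, orderOf_one] at hx
    omega
  · rintro ⟨g, hg⟩
    obtain ⟨l, hc, hs, hl⟩ := h (π g) (by rw [← map_mul, hg, hT.map_z])
    obtain ⟨y, hy, hy2⟩ := hT.exists_sq_lift hc hs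
    apply hz
    rcases hT.eq_or g y (hy.trans hl).symm with rfl | rfl
    · rw [← hg, hy2]
    · rw [(hT.commute_z y).symm.mul_mul_mul_comm, hy2, hT.sq, one_mul] at hg
      exact hg.symm

end TwoCover

end Cfsg.Agent.Lib.Fischer3T52
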