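import Cfsg.Agent.Lib.Fischer3T52.Lift
import Cfsg.Agent.Lib.M22Struct66.Local
import Cfsg.Agent.Lib.ThreeTransp.PSUSixOval

/-!
# Involutions lift in a double cover of `PSU₆(2)`

An involution is a product of commuting transvections.  The hyperovals and the lines of totally isotropic
planes force the lifts of these to commute and to square to 1.
-/

set_option autoImplicit false

namespace Cfsg.Agent.Lib.Fischer3T52

open Cfsg Cfsg.Agent.Lib.PSUAut Cfsg.Agent.Lib.ThreeTransp Cfsg.Agent.Lib.ThreeTransp.PSUSix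
open Cfsg.Agent.Lib.M22Struct66

variable {F : Type} [Field F] [Fintype F]

local notation "V" => (Fin 6 → F)
local notation "B" => Cfsg.hermForm 6 F 2
local notation "SU6" => (SUType 6 F 2)
local notation "T" v:max => (tp (n := 6) (q := 2) v (1 : F) : Cfsg.PSU 6 F 2)
local notation "tt" v:max => (eich v (0 : Fin 6 → F) (1 : F) : SUType 6 F 2)

variable (hF : Fintype.card F = 4)
include hF

/-- An involution of `SU₆(2)` is a product of transvections whose centres are orthogonal to its fixed vectors. -/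
theorem exists_transvection_list : ∀ (n : ℕ) (s : SU6), s * s = 1 → {y : V | act s y ≠ y}.ncard ≤ n →
    ∃ l : List V, (∀ v ∈ l, IsPt v ∧ ∀ y, act s y = y → B v y = 0) ∧
      (∀ v ∈ l, ∀ w ∈ l, B v w = 0) ∧ (l.map fun v => T v).prod = proj s := by
  have h := herm (n := 6) (card' hF)
  intro n
  induction n using Nat.strong_induction_on with
  | _ n ih =>
    intro s hs hn
    by_cases hs1 : s = 1
    · exact ⟨[], by simp, by simp, by simp [hs1]⟩
    obtain ⟨w, f, -, -, hp, hsf, hsw, hu2, huw, huf⟩ := exists_step hF hs (R := (⊤ : Submodule F V)) hs1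
      fun x => ⟨Submodule.mem_top, x, Submodule.mem_top, rfl, rfl⟩
    have hw0 := hp.left_ne_zero h
    have horth : ∀ y, act s y = y → B w y = 0 := by
      intro y hy
      rw [← hsf, h.add_left, self_adj hF hs, hy, add_self' hF]
    set u := s * tt w with hu
    have hfix : ∀ y, act s y = y → act u y = y := by
      intro y hy
      rw [hu, act_mul, act_t hF hp.ee, orth_symm h (horth y hy), zero_smul, add_zero, hy]
    have hlt : {y : V | act u y ≠ y}.ncard < {y : V | act s y ≠ y}.ncard := by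
      refine Set.ncard_lt_ncard ⟨fun y hy hy' => hy (hfix y hy'), fun hsub => ?_⟩ (Set.toFinite _)
      refine hsub (show f ∈ {y : V | act s y ≠ y} from fun e => hw0 ?_) huf
      rw [← hsf, e, vec_add_self hF]
    obtain ⟨l, hl, hlc, hlp⟩ := ih _ (lt_of_lt_of_le hlt hn) u hu2 le_rfl
    refine ⟨w :: l, ?_, ?_, ?_⟩
    · intro v hv
      rcases List.mem_cons.1 hv with e1 | h1
      · rw [e1]; exact ⟨⟨hw0, hp.ee⟩, horth⟩
      · exact ⟨(hl v h1).1, fun y hy => (hl v h1).2 y (hfix y hy)⟩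
    · intro v hv v' hv'
      rcases List.mem_cons.1 hv with e1 | h1 <;> rcases List.mem_cons.1 hv' with e2 | h2
      · rw [e1, e2]; exact hp.ee
      · rw [e1]; exact orth_symm h ((hl v' h2).2 w huw)
      · rw [e2]; exact (hl v h1).2 w huw
      · exact hlc v h1 v' h2
    · have hcomm : proj s * T w = T w * proj s := by
        have := conj_T hF s hp.ee
        rw [hsw, mul_inv_eq_iff_eq_mul] at this
        exact this
      rw [List.map_cons, List.prod_cons, hlp, hu, map_mul, show proj (tt w) = T w from rfl, hcomm, ← mul_assoc,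
        T_sq hF hp.ee, one_mul]

/-- An involution of `PSU₆(2)` is a product of pairwise commuting transvections. -/
theorem exists_points_list {x : Cfsg.PSU 6 F 2} (hx : x * x = 1) :
    ∃ l : List (Cfsg.PSU 6 F 2), (∀ U ∈ l, U ∈ points F) ∧ (∀ U ∈ l, ∀ W ∈ l, Commute U W) ∧ l.prod = x := by
  obtain ⟨s, rfl, hs⟩ := exists_lift hF hx
  obtain ⟨l, hl, hlc, hlp⟩ := exists_transvection_list hF _ s hs le_rfl
  refine ⟨l.map fun v => T v, ?_, ?_, hlp⟩
  · intro U hU
    obtain ⟨v, hv, rfl⟩ := List.mem_map.1 hU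
    exact ⟨v, (hl v hv).1, rfl⟩
  · intro U hU W hW
    obtain ⟨v, hv, rfl⟩ := List.mem_map.1 hU
    obtain ⟨w, hw, rfl⟩ := List.mem_map.1 hW
    exact (commute_T hF (hl v hv).1.1 (hl v hv).1.2 (hl w hw).1.1 (hl w hw).1.2).2 (hlc w hw v hv)

/-- Six transvections with product 1 through two commuting ones; the five other than the first are conjugate
under the centraliser of the first. -/
theorem exists_six_through {p q : V} (hp : IsPt p) (hq : IsPt q) (hqp : B q p = 0) (hne : T p ≠ T q) :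
    ∃ u : Fin 5 → Cfsg.PSU 6 F 2, (∀ i, u i ∈ points F) ∧ u 0 = T q ∧ (∀ i, Commute (T p) (u i)) ∧
      (∀ i j, Commute (u i) (u j)) ∧ T p * (List.ofFn u).prod = 1 ∧ (∀ i, T p ≠ u i) ∧ Function.Injective u ∧
      ∀ i, ∃ g, g * T p * g⁻¹ = T p ∧ g * T q * g⁻¹ = u i := by
  have h := herm (n := 6) (card' hF)
  have hind : ∀ a : F, q ≠ a • p := fun a e => by
    by_cases ha : a = 0
    · exact hq.1 (by rw [e, ha, zero_smul])
    · exact hne (by rw [e, T_smul hF hp.2 ha])
  obtain ⟨e, f, c, hfr, he0, hq1⟩ := exists_frame_orth hF hp.1 hp.2 hq.2 hqp hind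
  have hcmb : ∀ a b g : F, a • e 0 + b • q + g • e 2 = (a + b * c) • e 0 + b • e 1 + g • e 2 := by
    intro a b g; rw [hq1, he0]; module
  have horth : ∀ a b g a' b' g' : F,
      B (a • e 0 + b • e 1 + g • e 2) (a' • e 0 + b' • e 1 + g' • e 2) = 0 := by
    intros
    simp [h.add_left, h.add_right, h.smul_left, h.smul_right, hfr.ee]
  have hefv : ∀ (a b g : F) (i : Fin 3), B (a • e 0 + b • e 1 + g • e 2) (f i) = ![a, b, g] i := by
    intro a b g i
    fin_cases i <;> simp [h.add_left, h.smul_left, hfr.ef]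
  let P : Plane F :=
    { p := e 0
      q := q
      r := e 2
      orth := fun a b g a' b' g' => by rw [hcmb, hcmb]; exact horth _ _ _ _ _ _
      indep := fun a b g hz => by
        rw [hcmb] at hz
        have k : ∀ i, ![a + b * c, b, g] i = 0 := fun i => by rw [← hefv, hz, h.zero_left]
        have k1 : b = 0 := by simpa using k 1
        have k2 : g = 0 := by simpa using k 2
        have k0 : a + b * c = 0 := by simpa using k 0
        rw [k1, zero_mul, add_zero] at k0
        exact ⟨k0, k1, k2⟩ }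
  obtain ⟨ω, hω⟩ := exists_omega hF
  let v : Fin 6 → V := fun i => P.pt (ovalPts ω 1 i)
  have hv : ∀ i, IsPt (v i) := fun i => P.isPt hF (ovalPts_ne_zero ω 1 i)
  have hv0 : v 0 = p := by simp [v, Plane.pt, P, ovalPts, he0]
  have hv1 : v 1 = q := by simp [v, Plane.pt, P, ovalPts]
  -- a member commuting with `T p` and with neither of two others conjugates one to the other
  have hconn : ∀ i, i ≠ 0 → ∃ g, g * T p * g⁻¹ = T p ∧ g * T q * g⁻¹ = T (v i) := by
    have hstep : ∀ (w : V) (i : Fin 6), IsPt w → B p w = 0 → B q w ≠ 0 → B (v i) w ≠ 0 →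
        ∃ g, g * T p * g⁻¹ = T p ∧ g * T q * g⁻¹ = T (v i) := by
      intro w i hw hpw hqw hiw
      have c1 : Commute (T p) (T w) := (commute_T hF hp.1 hp.2 hw.1 hw.2).2 (orth_symm h hpw)
      have c2 : Commute (T p) (T q) := (commute_T hF hp.1 hp.2 hq.1 hq.2).2 hqp
      have c3 : Commute (T p) (T (v i)) := by
        rw [← hv0]; exact P.commute hF (ovalPts_ne_zero ω 1 0) (ovalPts_ne_zero ω 1 i)
      have b1 := braid_conj hF hq.2 hw.2 hqw
      have b2 := braid_conj hF (hv i).2 hw.2 hiw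
      refine ⟨(T (v i) * T w)⁻¹ * (T q * T w), ?_, ?_⟩
      · rw [((c3.mul_right c1).inv_right.mul_right (c2.mul_right c1)).symm.eq, mul_inv_cancel_right]
      · calc (T (v i) * T w)⁻¹ * (T q * T w) * T q * ((T (v i) * T w)⁻¹ * (T q * T w))⁻¹
            = (T (v i) * T w)⁻¹ * ((T q * T w) * T q * (T q * T w)⁻¹) * (T (v i) * T w) := by group
          _ = T (v i) := by rw [b1]; conv_lhs => arg 1; arg 2; rw [← b2]
                            group
    have hw1 : IsPt (f 1) := ⟨hfr.ne_zero_right hF 1, hfr.ff 1 1⟩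
    have hw2 : IsPt (f 1 + f 2) := by
      refine ⟨fun e0 => ?_, by simp [h.add_left, h.add_right, hfr.ff]⟩
      have := congrArg (fun x => B (e 1) x) e0
      simp [h.add_right, hfr.ef, h.zero_right] at this
    have hp1 : B p (f 1) = 0 := by rw [← he0, hfr.ef]; simp
    have hp2 : B p (f 1 + f 2) = 0 := by rw [← he0, h.add_right, hfr.ef, hfr.ef]; simp
    have hvf : ∀ i j, B (v i) (f j) = ![ovalPts ω 1 i 0 + ovalPts ω 1 i 1 * c, ovalPts ω 1 i 1, ovalPts ω 1 i 2] j := by
      intro i j; rw [← hefv]; congr 1; exact hcmb _ _ _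
    obtain ⟨f0, f1', f2', f3, f4⟩ := omega_facts hF hω
    intro i hi
    by_cases hi2 : i = 2
    · subst hi2
      refine hstep _ 2 hw2 hp2 ?_ ?_
      · rw [← hv1, h.add_right, hvf, hvf]; simp [ovalPts]
      · rw [h.add_right, hvf, hvf]; simp [ovalPts]
    · refine hstep _ i hw1 hp1 (by rw [← hv1, hvf]; simp [ovalPts]) ?_
      rw [hvf]
      fin_cases i <;> first | exact absurd rfl hi | exact absurd rfl hi2 | simp [ovalPts, f0, f1']
  have hlist : T p * (List.ofFn fun i : Fin 5 => T (v i.succ)).prod = 1 := by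
    have := P.oval_prod hF hω (c := 1) one_ne_zero
    rw [List.ofFn_succ, List.prod_cons] at this
    rw [← hv0]; exact this
  refine ⟨fun i => T (v i.succ), fun i => ⟨_, hv _, rfl⟩, ?_, ?_, ?_, hlist, ?_, ?_, fun i => hconn _ (Fin.succ_ne_zero i)⟩
  · show T (v 1) = T q
    rw [hv1]
  · intro i
    rw [← hv0]
    exact P.commute hF (ovalPts_ne_zero ω 1 0) (ovalPts_ne_zero ω 1 i.succ)
  · exact fun i j => P.commute hF (ovalPts_ne_zero ω 1 i.succ) (ovalPts_ne_zero ω 1 j.succ)
  · intro i e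
    rw [← hv0] at e
    exact (Fin.succ_ne_zero i) (P.oval_inj hF hω one_ne_zero e).symm
  · intro i j e
    exact Fin.succ_injective _ (P.oval_inj hF hω one_ne_zero e)

variable {C : Type*} [Group C] {π : C →* Cfsg.PSU 6 F 2} {z : C} (hT : TwoCover π z)
include hT

/-- Lifts of commuting transvections commute. -/
theorem points_comm {a b : Cfsg.PSU 6 F 2} (ha : a ∈ points F) (hb : b ∈ points F) (hab : Commute a b)
    (hne : a ≠ b) : LiftComm π a b := by
  obtain ⟨p, hp, rfl⟩ := ha
  obtain ⟨q, hq, rfl⟩ := hb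
  obtain ⟨u, -, hu0, hc, -, hprod, -, -, hg⟩ :=
    exists_six_through hF hp hq ((commute_T hF hp.1 hp.2 hq.1 hq.2).1 hab) hne
  rw [show tv q = u 0 from hu0.symm]
  refine hT.liftComm_of_prod (by rw [List.length_ofFn]; decide) hprod ?_ ?_ _ (List.mem_ofFn.2 ⟨0, rfl⟩)
  · intro x hx
    obtain ⟨i, rfl⟩ := List.mem_ofFn.1 hx
    exact hc i
  · intro x hx y hy
    obtain ⟨i, rfl⟩ := List.mem_ofFn.1 hx
    obtain ⟨j, rfl⟩ := List.mem_ofFn.1 hy
    obtain ⟨g, g1, g2⟩ := hg i
    obtain ⟨g', g1', g2'⟩ := hg j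
    exact (hT.liftComm_conj g1 g2).symm.trans (hT.liftComm_conj g1' g2')

theorem liftComm_self (a : Cfsg.PSU 6 F 2) : LiftComm π a a := by
  obtain ⟨c, rfl⟩ := hT.surj a
  exact (hT.liftComm_iff rfl rfl).2 (Commute.refl c)

theorem points_comm' {a b : Cfsg.PSU 6 F 2} (ha : a ∈ points F) (hb : b ∈ points F) (hab : Commute a b) :
    LiftComm π a b := by
  by_cases e : a = b
  · exact e ▸ liftComm_self hF hT a
  · exact points_comm hF hT ha hb hab e

/-- Commuting transvections have lifts squaring alike. -/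
theorem pair_sq {p q : V} (hp : IsPt p) (hq : IsPt q) (hqp : B q p = 0) (hne : T p ≠ T q)
    (hsq : LiftSq π (T q)) : LiftSq π (T p) := by
  obtain ⟨u, hu, -, hc, huu, hprod, -, -, hg⟩ := exists_six_through hF hp hq hqp hne
  have hus : ∀ i, LiftSq π (u i) := fun i => by
    obtain ⟨g, -, g2⟩ := hg i
    exact (hT.liftSq_conj g2).1 hsq
  obtain ⟨y, hy, hy2⟩ := hT.exists_sq_lift (l := List.ofFn u) (fun x hx w hw => by
    obtain ⟨i, rfl⟩ := List.mem_ofFn.1 hx
    obtain ⟨j, rfl⟩ := List.mem_ofFn.1 hw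
    exact points_comm' hF hT (hu i) (hu j) (huu i j)) (fun x hx => by
    obtain ⟨i, rfl⟩ := List.mem_ofFn.1 hx
    exact hus i)
  intro a ha
  rcases hT.ker (a * y) (by rw [map_mul, ha, hy, hprod]) with e | e
  · rw [mul_eq_one_iff_eq_inv] at e
    rw [e, ← mul_inv_rev, hy2, inv_one]
  · rw [← eq_mul_inv_iff_mul_eq, inv_eq_of_mul_eq_one_right hy2] at e
    rw [e, (hT.commute_z y).mul_mul_mul_comm, hT.sq, hy2, one_mul]

/-- All transvections have lifts squaring alike. -/
theorem points_sq_iff {a b : Cfsg.PSU 6 F 2} (ha : a ∈ points F) (hb : b ∈ points F) :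
    LiftSq π a ↔ LiftSq π b := by
  obtain ⟨p, hp, rfl⟩ := ha
  obtain ⟨q, hq, rfl⟩ := hb
  by_cases e : tv p = tv q
  · rw [e]
  by_cases hqp : B q p = 0
  · exact ⟨pair_sq hF hT hq hp (orth_symm (herm (n := 6) (card' hF)) hqp) (Ne.symm e),
      pair_sq hF hT hp hq hqp e⟩
  · exact hT.liftSq_conj (braid_conj hF hp.2 hq.2
      fun h0 => hqp (orth_symm (herm (n := 6) (card' hF)) h0))

/-- A transvection lifts to an involution. -/
theorem points_sq {a : Cfsg.PSU 6 F 2} (ha : a ∈ points F) : LiftSq π a := by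
  obtain ⟨p, hp, rfl⟩ := ha
  obtain ⟨e, f, hfr, he⟩ := exists_frame_one hF hp.1 hp.2
  have hp1 : IsPt (e 1) := ⟨hfr.ne_zero_left hF 1, hfr.ee 1 1⟩
  have hcm : Commute (T p) (T (e 1)) := (commute_T hF hp.1 hp.2 hp1.1 hp1.2).2 (he ▸ hfr.ee 1 0)
  have hne : T p ≠ T (e 1) := fun e0 => by
    obtain ⟨t, ht⟩ := T_line hF hp.1 hp.2 hp1.2 e0
    have := congrArg (fun x => B x (f 0)) ht
    simp [(herm (n := 6) (card' hF)).smul_left, ← he, hfr.ef] at this
  have hE := points_set hF
  obtain ⟨x, y, w, -, hmem, hcom, hprod, -⟩ := exists_five hF hE (points_conj hF) ⟨p, hp, rfl⟩ ⟨e 1, hp1, rfl⟩ hcm hne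
  refine hT.liftSq_of_prod (by simp; decide) hprod (fun v hv v' hv' => points_comm' hF hT (hmem v hv) (hmem v' hv')
    (hcom v hv v' hv')) (fun v hv => ?_) (fun v hv v' hv' => points_sq_iff hF hT (hmem v hv) (hmem v' hv')) _ (by simp)
  exact ThreeTransp.mul_self hE (hmem v hv)

/-- Involutions of `PSU₆(2)` lift to involutions in a double cover, and the central involution is no square. -/
theorem lift_psu (hz : z ≠ 1) :
    (∀ x : Cfsg.PSU 6 F 2, orderOf x = 2 → ∃ y : C, orderOf y = 2 ∧ π y = x) ∧ ¬ ∃ g : C, g * g = z :=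
  hT.lift_involutions hz fun _ hx => by
    obtain ⟨l, hl, hlc, hlp⟩ := exists_points_list hF hx
    exact ⟨l, fun v hv w hw => points_comm' hF hT (hl v hv) (hl w hw) (hlc v hv w hw),
      fun v hv => points_sq hF hT (hl v hv), hlp⟩

end Cfsg.Agent.Lib.Fischer3T52
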